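import Mathlib
import Groth.Prelude.Def_W4c3degenlocivbPfaff

/-! Sub-Pfaffians of a pencil of alternating matrices. -/

set_option autoImplicit false

universe u v

noncomputable section

open MvPolynomial W4c3degenlocivb

namespace Groth.Pencil

theorem pf_map {R : Type u} {S : Type v} [CommRing R] [CommRing S] (φ : R →+* S) :
    ∀ (n : ℕ) (T : Matrix (Fin n) (Fin n) R), φ (pf n T) = pf n (T.map φ)
  | 0, _ => map_one φ
  | 1, _ => map_zero φ
  | n + 2, T => by
    simp only [pf, map_sum, map_mul, map_pow, map_neg, map_one, pf_map φ n]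
    rfl

theorem pf_homogeneous {R : Type u} [CommRing R] {σ : Type v} :
    ∀ (n : ℕ) (T : Matrix (Fin n) (Fin n) (MvPolynomial σ R)),
      (∀ a b, (T a b).IsHomogeneous 1) → (pf n T).IsHomogeneous (n / 2)
  | 0, _, _ => isHomogeneous_one σ R
  | 1, _, _ => isHomogeneous_zero σ R _
  | n + 2, T, hT => by
    have e : (n + 2) / 2 = 1 + n / 2 := by omega
    rw [e]
    simp only [pf]
    refine IsHomogeneous.sum _ _ _ fun j _ => ?_
    refine IsHomogeneous.mul ?_ (pf_homogeneous n _ fun a b => hT _ _)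
    rw [show ((-1 : MvPolynomial σ R) ^ ((j : ℕ) + 1)) = C ((-1 : R) ^ ((j : ℕ) + 1)) by simp]
    exact (hT _ _).C_mul _

theorem pf_tridiagonal {R : Type u} [CommRing R] :
    ∀ (s : ℕ) (T : Matrix (Fin (2 * s)) (Fin (2 * s)) R), (∀ a b, T b a = -T a b) →
      (∀ a b : Fin (2 * s), (b : ℕ) + 1 < a → T a b = 0) →
      pf (2 * s) T = ∏ t : Fin s, T ⟨2 * t, by omega⟩ ⟨2 * t + 1, by omega⟩
  | 0, T, _, _ => by simp [pf]
  | s + 1, T, hA, hZ => by
    have key : ∀ T' : Matrix (Fin (2 * s + 2)) (Fin (2 * s + 2)) R, (∀ a b, T' b a = -T' a b) →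
        (∀ a b : Fin (2 * s + 2), (b : ℕ) + 1 < a → T' a b = 0) →
        pf (2 * s + 2) T' = ∏ t : Fin (s + 1), T' ⟨2 * t, by omega⟩ ⟨2 * t + 1, by omega⟩ := by
      intro T' hA' hZ'
      rw [pf, Finset.sum_eq_single (Fin.last (2 * s))]
      · have ih := pf_tridiagonal s
          (T'.submatrix (Fin.castSucc ∘ (Fin.last (2 * s)).succAbove) (Fin.castSucc ∘ (Fin.last (2 * s)).succAbove))
          (fun a b => hA' _ _) (fun a b hab => hZ' _ _ (by simpa [Fin.succAbove_last] using hab))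
        rw [ih, Fin.prod_univ_castSucc, Fin.val_last, pow_succ, pow_mul]
        simp only [neg_one_sq, one_pow, one_mul]
        rw [hA' (Fin.last (2 * s)).castSucc (Fin.last (2 * s + 1)), neg_mul_neg, one_mul, mul_comm]
        congr 1
        refine Finset.prod_congr rfl fun t _ => ?_
        simp only [Matrix.submatrix_apply, Function.comp_apply, Fin.succAbove_last]
        rfl
      · intro j _ hj
        rw [hZ' (Fin.last (2 * s + 1)) (Fin.castSucc j) ?_, mul_zero, zero_mul]
        have h1 : (j : ℕ) ≠ 2 * s := fun h => hj (Fin.ext h)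
        have := j.isLt
        simp only [Fin.val_castSucc, Fin.val_last]
        omega
      · simp
    exact key T hA hZ

/-- The even index `2 j`. -/
def even (r : ℕ) (j : Fin (r + 1)) : Fin (2 * r + 1) := ⟨2 * j, by omega⟩

/-- The Kronecker pencil. -/
def c₀ {k : Type u} [CommRing k] (r : ℕ) (a b : Fin (2 * r + 1)) (l : Fin 2) : k :=
  (if (a : ℕ) + 1 = b ∧ (l : ℕ) = (a : ℕ) % 2 then 1 else 0) -
    (if (b : ℕ) + 1 = a ∧ (l : ℕ) = (b : ℕ) % 2 then 1 else 0)

/-- The matrix of linear forms of a coefficient array. -/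
def mat {k : Type u} [CommRing k] {n : ℕ} (c : Fin n → Fin n → Fin 2 → k) :
    Matrix (Fin n) (Fin n) (MvPolynomial (Fin 2) k) :=
  Matrix.of fun a b => ∑ l : Fin 2, C (c a b l) * X l

theorem map_mat {k : Type u} {k' : Type v} [CommRing k] [CommRing k'] (φ : k →+* k') {n : ℕ}
    (c : Fin n → Fin n → Fin 2 → k) :
    (mat c).map (MvPolynomial.map φ) = mat fun a b l => φ (c a b l) := by
  ext1 a b
  simp [mat]

theorem mat_homogeneous {k : Type u} [CommRing k] {n : ℕ} (c : Fin n → Fin n → Fin 2 → k) (a b : Fin n) :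
    (mat c a b).IsHomogeneous 1 := by
  simp only [mat, Matrix.of_apply]
  exact IsHomogeneous.sum _ _ _ fun l _ => (isHomogeneous_X k l).C_mul _

/-- The sub-Pfaffian at an index. -/
def subPf {k : Type u} [CommRing k] (r : ℕ) (c : Fin (2 * r + 1) → Fin (2 * r + 1) → Fin 2 → k)
    (i : Fin (2 * r + 1)) : MvPolynomial (Fin 2) k :=
  pf (2 * r) ((mat c).submatrix i.succAbove i.succAbove)

theorem subPf_homogeneous {k : Type u} [CommRing k] (r : ℕ)
    (c : Fin (2 * r + 1) → Fin (2 * r + 1) → Fin 2 → k) (i : Fin (2 * r + 1)) :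
    (subPf r c i).IsHomogeneous r := by
  have := pf_homogeneous (2 * r) ((mat c).submatrix i.succAbove i.succAbove) fun a b => mat_homogeneous c _ _
  rwa [show 2 * r / 2 = r by omega] at this

theorem map_subPf {k : Type u} {k' : Type v} [CommRing k] [CommRing k'] (φ : k →+* k') (r : ℕ)
    (c : Fin (2 * r + 1) → Fin (2 * r + 1) → Fin 2 → k) (i : Fin (2 * r + 1)) :
    MvPolynomial.map φ (subPf r c i) = subPf r (fun a b l => φ (c a b l)) i := by
  rw [subPf, pf_map, subPf]
  congr 1
  ext1 a b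
  simp [mat]

theorem c₀_antisymm {k : Type u} [CommRing k] (r : ℕ) (a b : Fin (2 * r + 1)) (l : Fin 2) :
    (c₀ r b a l : k) = -c₀ r a b l := by
  simp only [c₀]; ring

theorem subPf_c₀ {k : Type u} [CommRing k] (r : ℕ) (j : Fin (r + 1)) :
    subPf r (c₀ (k := k) r) (even r j) = X 0 ^ (j : ℕ) * X 1 ^ (r - j) := by
  let f : Fin (2 * r) → Fin (2 * r + 1) := (even r j).succAbove
  have hf : ∀ x : Fin (2 * r), (f x : ℕ) = if (x : ℕ) < 2 * j then (x : ℕ) else (x : ℕ) + 1 := fun x => by
    simp only [f, Fin.succAbove, even, Fin.lt_def, Fin.val_castSucc]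
    split_ifs <;> simp
  rw [subPf, pf_tridiagonal r]
  · have ht : ∀ t : Fin r, mat (c₀ (k := k) r) (f ⟨2 * t, by omega⟩) (f ⟨2 * t + 1, by omega⟩) =
        if (t : ℕ) < j then X 0 else X 1 := by
      intro t
      by_cases h : (t : ℕ) < j
      · have h1 : (f ⟨2 * t, by omega⟩ : ℕ) = 2 * t := by rw [hf, if_pos (by simp; omega)]
        have h2 : (f ⟨2 * t + 1, by omega⟩ : ℕ) = 2 * t + 1 := by rw [hf, if_pos (by simp; omega)]
        have h3 : ¬ 2 * (t : ℕ) + 1 + 1 = 2 * t := by omega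
        simp [mat, c₀, h1, h2, h3, h, Fin.sum_univ_two]
      · have h1 : (f ⟨2 * t, by omega⟩ : ℕ) = 2 * t + 1 := by rw [hf, if_neg (by simp; omega)]
        have h2 : (f ⟨2 * t + 1, by omega⟩ : ℕ) = 2 * t + 1 + 1 := by rw [hf, if_neg (by simp; omega)]
        have h3 : ¬ 2 * (t : ℕ) + 1 + 1 = 2 * t := by omega
        have h4 : (2 * (t : ℕ) + 1) % 2 = 1 := by omega
        simp [mat, c₀, h1, h2, h3, h4, h, Fin.sum_univ_two]
    simp only [Matrix.submatrix_apply]
    change ∏ t : Fin r, mat (c₀ (k := k) r) (f ⟨2 * t, by omega⟩) (f ⟨2 * t + 1, by omega⟩) = _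
    simp only [ht]
    rw [Fin.prod_univ_eq_prod_range (fun t => if t < (j : ℕ) then (X 0 : MvPolynomial (Fin 2) k) else X 1) r,
      ← Finset.prod_range_mul_prod_Ico _ (Fin.is_le j),
      Finset.prod_congr rfl fun t ht => if_pos (Finset.mem_range.1 ht),
      Finset.prod_congr rfl fun t ht => if_neg (Finset.mem_Ico.1 ht).1.not_gt]
    simp
  · intro a b
    simp only [Matrix.submatrix_apply, mat, Matrix.of_apply]
    rw [← Finset.sum_neg_distrib]
    exact Finset.sum_congr rfl fun l _ => by rw [c₀_antisymm, map_neg, neg_mul]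
  · intro a b hab
    simp only [Matrix.submatrix_apply, mat, Matrix.of_apply]
    have e1 := hf a
    have e2 := hf b
    simp only [f] at e1 e2
    refine Finset.sum_eq_zero fun l _ => ?_
    have n1 : ¬ (((even r j).succAbove a : ℕ) + 1 = (even r j).succAbove b) := by
      rw [e1, e2]; split_ifs <;> omega
    have n2 : ¬ (((even r j).succAbove b : ℕ) + 1 = (even r j).succAbove a) := by
      rw [e1, e2]; split_ifs <;> omega
    simp [c₀, n1, n2]

/-- The exponent of the monomial `x ^ l y ^ (r - l)`. -/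
def mon (r : ℕ) (l : Fin (r + 1)) : Fin 2 →₀ ℕ :=
  Finsupp.single 0 (l : ℕ) + Finsupp.single 1 (r - l)

theorem coeff_subPf_c₀ {k : Type u} [CommRing k] (r : ℕ) (j l : Fin (r + 1)) :
    coeff (mon r l) (subPf r (c₀ (k := k) r) (even r j)) = if j = l then 1 else 0 := by
  classical
  rw [subPf_c₀, X_pow_eq_monomial, X_pow_eq_monomial, monomial_mul, one_mul, coeff_monomial]
  refine if_congr ⟨fun h => Fin.ext ?_, fun h => by rw [h]; rfl⟩ rfl rfl
  have := DFunLike.congr_fun h 0
  simpa [mon] using this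

end Groth.Pencil
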